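import Groth.Agent.Lib.OX.Resolution
import Groth.Agent.Lib.OX.LocFreeTensor
import Groth.Prelude.Def_ExtSupp
import Groth.Prelude.Def_Coh

/-! # Internal Hom into an injective is exact on sections -/

set_option autoImplicit false
set_option maxHeartbeats 400000
set_option linter.style.haveILetI false
set_option backward.isDefEq.respectTransparency false

universe u

open CategoryTheory CategoryTheory.Limits AlgebraicGeometry Opposite

namespace GrothLib.HomSES20

open OX

variable {X : Scheme.{u}}

theorem symm_comp_sheafHomMap {M M' : X.Modules} [ModSite.HasSheafHom (O := X.sheaf) M]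
    [ModSite.HasSheafHom (O := X.sheaf) M'] (g : M' ⟶ M) {P N : X.Modules}
    (k : P ⟶ (ModSite.sheafHom (O := X.sheaf) M).obj N) :
    ((ModSite.sheafHomAdj (O := X.sheaf) M').homEquiv P N).symm
        (k ≫ (ExtSupp.sheafHomMap (O := X.sheaf) g).app N) =
      ((ModSite.tensorBi X.sheaf).obj P).map g ≫ ((ModSite.sheafHomAdj (O := X.sheaf) M).homEquiv P N).symm k := by
  rw [Adjunction.homEquiv_counit, Adjunction.homEquiv_counit, Functor.map_comp, Category.assoc]
  erw [conjugateEquiv_counit (ModSite.sheafHomAdj (O := X.sheaf) M) (ModSite.sheafHomAdj (O := X.sheaf) M')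
    ((ModSite.tensorBi X.sheaf).flip.map g) N]
  exact NatTrans.naturality_assoc ((ModSite.tensorBi X.sheaf).flip.map g) k
    ((ModSite.sheafHomAdj (O := X.sheaf) M).counit.app N)

theorem map_tensor_zero (P : X.Modules) {M M' : X.Modules} :
    ((ModSite.tensorBi X.sheaf).obj P).map (0 : M ⟶ M') = 0 := by
  have : ((DCoh.tensorBi (X := X)).obj P).Additive :=
    Functor.additive_of_iso ((tensorBraiding (X := X)).app P)
  exact ((DCoh.tensorBi (X := X)).obj P).map_zero _ _

theorem symm_zero (M : X.Modules) [ModSite.HasSheafHom (O := X.sheaf) M] (P N : X.Modules) :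
    ((ModSite.sheafHomAdj (O := X.sheaf) M).homEquiv P N).symm 0 = 0 := by
  rw [Adjunction.homEquiv_counit]
  have h0 : ((ModSite.tensorBi X.sheaf).flip.obj M).map
      (0 : P ⟶ (ModSite.sheafHom (O := X.sheaf) M).obj N) = 0 :=
    ((DCoh.tensorBi (X := X)).flip.obj M).map_zero _ _
  rw [h0, zero_comp]

variable (S : ShortComplex X.Modules) (hS : S.ShortExact) [ModSite.HasSheafHom (O := X.sheaf) S.X₁]
  [ModSite.HasSheafHom (O := X.sheaf) S.X₂] [ModSite.HasSheafHom (O := X.sheaf) S.X₃] (N : X.Modules)

theorem homMap_comp_zero :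
    (ExtSupp.sheafHomMap (O := X.sheaf) S.g).app N ≫ (ExtSupp.sheafHomMap (O := X.sheaf) S.f).app N = 0 := by
  have h : ∀ {P : X.Modules} (k : P ⟶ (ModSite.sheafHom (O := X.sheaf) S.X₃).obj N),
      k ≫ (ExtSupp.sheafHomMap (O := X.sheaf) S.g).app N ≫ (ExtSupp.sheafHomMap (O := X.sheaf) S.f).app N = 0 := by
    intro P k
    apply ((ModSite.sheafHomAdj (O := X.sheaf) S.X₁).homEquiv P N).symm.injective
    rw [← Category.assoc, symm_comp_sheafHomMap, symm_comp_sheafHomMap, ← Category.assoc, ← Functor.map_comp,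
      S.zero, map_tensor_zero, zero_comp, symm_zero]
  have := h (𝟙 _)
  rwa [Category.id_comp] at this

/-- `0 → Hom(S.X₃, N) → Hom(S.X₂, N) → Hom(S.X₁, N)`. -/
noncomputable abbrev homSeq : ShortComplex X.Modules :=
  ShortComplex.mk _ _ (homMap_comp_zero S N)

variable (hx : S.Exact) (he' : Epi S.g)

include hx he' in
theorem existsUnique_lift {P : X.Modules} (k : P ⟶ (ModSite.sheafHom (O := X.sheaf) S.X₂).obj N)
    (hk : k ≫ (ExtSupp.sheafHomMap (O := X.sheaf) S.f).app N = 0) :
    ∃! l : P ⟶ (ModSite.sheafHom (O := X.sheaf) S.X₃).obj N,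
      l ≫ (ExtSupp.sheafHomMap (O := X.sheaf) S.g).app N = k := by
  let adj₁ := ModSite.sheafHomAdj (O := X.sheaf) S.X₁
  let adj₂ := ModSite.sheafHomAdj (O := X.sheaf) S.X₂
  let adj₃ := ModSite.sheafHomAdj (O := X.sheaf) S.X₃
  let L := (DCoh.tensorBi (X := X)).obj P
  have : PreservesColimitsOfSize.{u, u} L := OX.preservesColimitsOfSize_tensorBi_obj P
  have : PreservesColimitsOfSize.{0, 0} L := preservesSmallestColimits_of_preservesColimits _
  have : PreservesFiniteColimits L := PreservesColimitsOfSize.preservesFiniteColimits L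
  have he : Epi (L.map S.g) := inferInstance
  have : L.Additive := Functor.additive_of_iso ((tensorBraiding (X := X)).app P)
  have : Epi (S.map L).g := he
  have hc := (hx.map_of_epi_of_preservesCokernel L inferInstance inferInstance).gIsCokernel
  have h0 : L.map S.f ≫ (adj₂.homEquiv P N).symm k = 0 := by
    refine (symm_comp_sheafHomMap S.f k).symm.trans ?_
    rw [hk, symm_zero]
  obtain ⟨l, hl⟩ := CokernelCofork.IsColimit.desc' hc ((adj₂.homEquiv P N).symm k) h0
  refine ⟨adj₃.homEquiv P N l, (adj₂.homEquiv P N).symm.injective ?_, fun l' hl' => ?_⟩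
  · rw [symm_comp_sheafHomMap, Equiv.symm_apply_apply]
    exact hl
  · apply (adj₃.homEquiv P N).symm.injective
    rw [Equiv.symm_apply_apply, ← cancel_epi (L.map S.g)]
    exact ((symm_comp_sheafHomMap S.g l').symm.trans (congrArg (adj₂.homEquiv P N).symm hl')).trans hl.symm

include hx he' in
theorem homSeq_exact : (homSeq S N).Exact := by
  have hm : Mono (homSeq S N).f := ⟨fun {P} a b hab =>
    (existsUnique_lift S N hx he' (a ≫ (ExtSupp.sheafHomMap (O := X.sheaf) S.g).app N)
      (by rw [Category.assoc, homMap_comp_zero, comp_zero])).unique rfl hab.symm⟩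
  exact ShortComplex.exact_of_f_is_kernel _ (KernelFork.IsLimit.ofι' _ (homSeq S N).zero fun k hk =>
    ⟨(existsUnique_lift S N hx he' k hk).exists.choose, (existsUnique_lift S N hx he' k hk).exists.choose_spec⟩)

include hx he' in
theorem mono_homMap : Mono ((ExtSupp.sheafHomMap (O := X.sheaf) S.g).app N) where
  right_cancellation {P} a b hab :=
    (existsUnique_lift S N hx he' (a ≫ (ExtSupp.sheafHomMap (O := X.sheaf) S.g).app N)
      (by rw [Category.assoc, homMap_comp_zero, comp_zero])).unique rfl hab.symm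

include hS in
theorem homMap_app_surjective [Injective N] (U : X.Opens) :
    Function.Surjective (((ExtSupp.sheafHomMap (O := X.sheaf) S.f).app N).val.app (op U)).hom := by
  intro s
  let adj₁ := ModSite.sheafHomAdj (O := X.sheaf) S.X₁
  let adj₂ := ModSite.sheafHomAdj (O := X.sheaf) S.X₂
  let a : gen X U ⟶ (ModSite.sheafHom (O := X.sheaf) S.X₁).obj N := (genHomEquiv U _).symm s
  have hm : Mono (((DCoh.tensorBi (X := X)).obj (gen X U)).map S.f) := by
    have h := tensor_map_shortExact (flat_gen U) hS
    exact (ShortComplex.shortExact_of_iso (S.mapNatIso ((tensorBraiding (X := X)).app (gen X U))) h).mono_f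
  obtain ⟨b, hb⟩ := Injective.factors ((adj₁.homEquiv _ N).symm a) (((DCoh.tensorBi (X := X)).obj (gen X U)).map S.f)
  refine ⟨genHomEquiv U _ (adj₂.homEquiv _ N b), ?_⟩
  refine (genHomEquiv_comp U (adj₂.homEquiv _ N b) ((ExtSupp.sheafHomMap (O := X.sheaf) S.f).app N)).symm.trans ?_
  have e : adj₂.homEquiv _ N b ≫ (ExtSupp.sheafHomMap (O := X.sheaf) S.f).app N = a := by
    apply (adj₁.homEquiv _ N).symm.injective
    rw [symm_comp_sheafHomMap, Equiv.symm_apply_apply]
    exact hb
  rw [e]
  exact Equiv.apply_symm_apply _ _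

theorem epi_of_app_surjective {M N : X.Modules} (φ : M ⟶ N)
    (h : ∀ U, Function.Surjective (φ.val.app (op U)).hom) : Epi φ where
  left_cancellation {Z} a b hab := by
    refine Scheme.Modules.hom_ext _ _ fun U => ?_
    refine AddCommGrpCat.hom_ext (AddMonoidHom.ext fun y => ?_)
    obtain ⟨x, rfl⟩ := h U y
    exact ConcreteCategory.congr_hom (congrArg (fun t => Scheme.Modules.Hom.app t U) hab) x

include hS in
/-- Direct images of internal Homs into an injective form a short exact sequence. -/
theorem push_homSeq_shortExact {Y : Scheme.{u}} (f : X ⟶ Y) (hN : Injective N)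
    [(Scheme.Modules.pushforward f).PreservesZeroMorphisms] :
    ((homSeq S N).map (Scheme.Modules.pushforward f)).ShortExact := by
  have := mono_homMap S N hS.exact hS.epi_g
  have : PreservesLimitsOfSize.{0, 0} (Scheme.Modules.pushforward f) :=
    (Scheme.Modules.pullbackPushforwardAdjunction f).rightAdjoint_preservesLimits
  have : Mono (homSeq S N).f := mono_homMap S N hS.exact hS.epi_g
  exact ShortComplex.ShortExact.mk'
    ((homSeq_exact S N hS.exact hS.epi_g).map_of_mono_of_preservesKernel _ inferInstance inferInstance)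
    (inferInstanceAs (Mono ((Scheme.Modules.pushforward f).map ((ExtSupp.sheafHomMap (O := X.sheaf) S.g).app N))))
    (epi_of_app_surjective _ fun V => homMap_app_surjective S hS N (f ⁻¹ᵁ V))

theorem sheafHomMap_comp_app {A B M : X.Modules} [ModSite.HasSheafHom (O := X.sheaf) A]
    [ModSite.HasSheafHom (O := X.sheaf) B] [ModSite.HasSheafHom (O := X.sheaf) M] (a : A ⟶ B) (b : B ⟶ M)
    (N : X.Modules) :
    (ExtSupp.sheafHomMap (O := X.sheaf) b).app N ≫ (ExtSupp.sheafHomMap (O := X.sheaf) a).app N =
      (ExtSupp.sheafHomMap (O := X.sheaf) (a ≫ b)).app N := by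
  have h : ∀ {P : X.Modules} (k : P ⟶ (ModSite.sheafHom (O := X.sheaf) M).obj N),
      k ≫ (ExtSupp.sheafHomMap (O := X.sheaf) b).app N ≫ (ExtSupp.sheafHomMap (O := X.sheaf) a).app N =
        k ≫ (ExtSupp.sheafHomMap (O := X.sheaf) (a ≫ b)).app N := by
    intro P k
    apply ((ModSite.sheafHomAdj (O := X.sheaf) A).homEquiv P N).symm.injective
    rw [← Category.assoc, symm_comp_sheafHomMap, symm_comp_sheafHomMap, symm_comp_sheafHomMap,
      ← Category.assoc, ← Functor.map_comp]
  have := h (𝟙 _)
  rwa [Category.id_comp, Category.id_comp] at this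

end GrothLib.HomSES20
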