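import Groth.Agent.Lib.FunSES25.Basic

/-! # The other two steps of the long exact sequence of derived functors of a sequence of functors -/

set_option autoImplicit false
universe v v' u u'

open CategoryTheory CategoryTheory.Limits HomologicalComplex

namespace GrothLib.HomSES20

open FunSES25

variable {A : Type u} [Category.{v} A] [Abelian A] [HasInjectiveResolutions A]
  {B : Type u'} [Category.{v'} B] [Abelian B]
  {T S G : A ⥤ B} [T.Additive] [S.Additive] [G.Additive] (ι : T ⟶ S) (π : S ⟶ G) (w : ι ≫ π = 0)
  (hse : ∀ I : A, Injective I → (seqAt ι π w I).ShortExact)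

theorem app_eq_conj {T' S' : A ⥤ B} [T'.Additive] [S'.Additive] (α : T' ⟶ S') (F : A) (n : ℕ) :
    (NatTrans.rightDerived α n).app F ≫ ((injectiveResolution F).isoRightDerivedObj S' n).hom =
      ((injectiveResolution F).isoRightDerivedObj T' n).hom ≫
        homologyMap ((NatTrans.mapHomologicalComplex α (ComplexShape.up ℕ)).app
          (injectiveResolution F).cocomplex) n := by
  rw [InjectiveResolution.rightDerived_app_eq α (injectiveResolution F) n, Category.assoc, Category.assoc,
    Iso.inv_hom_id, Category.comp_id]
  rfl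

include hse in
theorem comp_zero_rd (F : A) (n : ℕ) :
    (NatTrans.rightDerived ι n).app F ≫ (NatTrans.rightDerived π n).app F = 0 := by
  rw [← cancel_mono ((injectiveResolution F).isoRightDerivedObj G n).hom, zero_comp]
  refine (Category.assoc _ _ _).trans ((congrArg (_ ≫ ·) (app_eq_conj π F n)).trans
    ((Category.assoc _ _ _).symm.trans ((congrArg (· ≫ _) (app_eq_conj ι F n)).trans
      ((Category.assoc _ _ _).trans ?_))))
  refine (congrArg (((injectiveResolution F).isoRightDerivedObj T n).hom ≫ ·) ?_).trans comp_zero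
  refine (homologyMap_comp _ _ n).symm.trans ?_
  rw [(cxSeq ι π w (injectiveResolution F).cocomplex).zero]
  exact homologyMap_zero _ _ _

include hse in
theorem exact₂ (F : A) (n : ℕ) :
    (ShortComplex.mk _ _ (comp_zero_rd ι π w hse F n)).Exact :=
  (ShortComplex.exact_iff_of_iso (ShortComplex.isoMk ((injectiveResolution F).isoRightDerivedObj T n)
    ((injectiveResolution F).isoRightDerivedObj S n) ((injectiveResolution F).isoRightDerivedObj G n)
    (app_eq_conj ι F n).symm (app_eq_conj π F n).symm)).2
    ((cxSeq_shortExact ι π w hse (injectiveResolution F).cocomplex).homology_exact₂ n)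

include hse in
theorem mono_zero (F : A) : Mono ((NatTrans.rightDerived ι 0).app F) := by
  have h := cxSeq_shortExact ι π w hse (injectiveResolution F).cocomplex
  have := h.mono_f
  have hm : Mono (homologyMap (cxSeq ι π w (injectiveResolution F).cocomplex).f 0) :=
    mono_homologyMap_of_mono_of_not_rel _ 0 (fun j hj => by simp [ComplexShape.up_Rel] at hj)
  have e := app_eq_conj ι F 0
  have : Mono ((NatTrans.rightDerived ι 0).app F ≫ ((injectiveResolution F).isoRightDerivedObj S 0).hom) := by
    rw [e]
    exact mono_comp' inferInstance hm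
  exact mono_of_mono _ ((injectiveResolution F).isoRightDerivedObj S 0).hom

theorem δ_comp_zero (F : A) (n : ℕ) :
    (δ ι π w hse n).app F ≫ (NatTrans.rightDerived ι (n + 1)).app F = 0 := by
  rw [← cancel_mono ((injectiveResolution F).isoRightDerivedObj S (n + 1)).hom, Category.assoc, app_eq_conj ι,
    δ_app, zero_comp]
  refine (Category.assoc _ _ _).trans ((congrArg (_ ≫ ·) ((Category.assoc _ _ _).trans (congrArg (_ ≫ ·)
    (Iso.inv_hom_id_assoc ((injectiveResolution F).isoRightDerivedObj T (n + 1)) _)))).trans ?_)
  exact (congrArg (_ ≫ ·)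
    ((cxSeq_shortExact ι π w hse (injectiveResolution F).cocomplex).δ_comp n (n + 1) rfl)).trans comp_zero

theorem exact₁ (F : A) (n : ℕ) : (ShortComplex.mk _ _ (δ_comp_zero ι π w hse F n)).Exact := by
  let I := injectiveResolution F
  have c₂ : (δ ι π w hse n).app F ≫ (I.isoRightDerivedObj T (n + 1)).hom =
      (I.isoRightDerivedObj G n).hom ≫ (cxSeq_shortExact ι π w hse I.cocomplex).δ n (n + 1) rfl := by
    exact (congrArg (· ≫ (I.isoRightDerivedObj T (n + 1)).hom) (δ_app ι π w hse F n)).trans
      ((Category.assoc _ _ _).trans (congrArg ((I.isoRightDerivedObj G n).hom ≫ ·)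
        ((Category.assoc _ _ _).trans ((congrArg ((cxSeq_shortExact ι π w hse I.cocomplex).δ n (n + 1) rfl ≫ ·)
          (I.isoRightDerivedObj T (n + 1)).inv_hom_id).trans (Category.comp_id _)))))
  exact (ShortComplex.exact_iff_of_iso (ShortComplex.isoMk (I.isoRightDerivedObj G n)
    (I.isoRightDerivedObj T (n + 1)) (I.isoRightDerivedObj S (n + 1)) c₂.symm (app_eq_conj ι F (n + 1)).symm)).2
    ((cxSeq_shortExact ι π w hse I.cocomplex).homology_exact₁ n (n + 1) rfl)

end GrothLib.HomSES20
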