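import Groth.Agent.Lib.HomSES20.Hom
import Groth.Agent.Lib.HomSES20.LES
import Groth.Agent.Lib.SheafCoh.TensorAdj
import Groth.Agent.Lib.SheafCoh.Derived

/-! # Local and relative Ext from an acyclic resolution of the first variable -/

set_option autoImplicit false
set_option maxHeartbeats 400000
set_option linter.style.haveILetI false
set_option backward.isDefEq.respectTransparency false

universe u

open CategoryTheory CategoryTheory.Limits AlgebraicGeometry

namespace GrothLib.HomSES20

open FunSES25

/-- Homology as a cokernel into a given kernel. -/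
theorem nonempty_homology_iso_of_exact {C : Type*} [Category C] [Abelian C] (T : ShortComplex C) {K H : C}
    (i : K ⟶ T.X₂) (wi : i ≫ T.g = 0) (hi : IsLimit (KernelFork.ofι i wi)) (k : T.X₁ ⟶ K) (hk : k ≫ i = T.f)
    (c : K ⟶ H) (w : k ≫ c = 0) (hc : (ShortComplex.mk k c w).Exact) [Epi c] : Nonempty (T.homology ≅ H) := by
  have e : hi.lift (KernelFork.ofι T.f T.zero) = k :=
    Fork.IsLimit.hom_ext hi ((hi.fac _ WalkingParallelPair.zero).trans hk.symm)
  let h : T.LeftHomologyData :=
    { K := K
      H := H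
      i := i
      π := c
      wi := wi
      hi := hi
      wπ := by rw [e]; exact w
      hπ := CokernelCofork.IsColimit.ofπ' c _ fun {A} x hx =>
        CokernelCofork.IsColimit.desc' hc.gIsCokernel x (by rw [e] at hx; exact hx) }
  exact ⟨h.homologyIso⟩

variable {X Y : Scheme.{u}} (f : X ⟶ Y) [HasInjectiveResolutions (ModSite.Mod X.sheaf)]

local instance (M : X.Modules) : ModSite.HasSheafHom (O := X.sheaf) M :=
  GrothLib.SheafCoh.hasSheafHom X.sheaf M

/-- `f_* Hom(M, -)`. -/
noncomputable abbrev Φ (M : X.Modules) : ModSite.Mod X.sheaf ⥤ Y.Modules :=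
  ModSite.sheafHom (O := X.sheaf) M ⋙ Scheme.Modules.pushforward f

theorem preservesFiniteLimits_Φ (M : X.Modules) : PreservesFiniteLimits (Φ f M) := by
  have : PreservesLimitsOfSize.{0, 0} (ModSite.sheafHom (O := X.sheaf) M) :=
    (ModSite.sheafHomAdj (O := X.sheaf) M).rightAdjoint_preservesLimits
  have : PreservesLimitsOfSize.{0, 0} (Scheme.Modules.pushforward f) :=
    (Scheme.Modules.pullbackPushforwardAdjunction f).rightAdjoint_preservesLimits
  have : PreservesFiniteLimits (ModSite.sheafHom (O := X.sheaf) M) :=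
    PreservesLimitsOfSize.preservesFiniteLimits _
  have : PreservesFiniteLimits (Scheme.Modules.pushforward f) :=
    PreservesLimitsOfSize.preservesFiniteLimits _
  exact comp_preservesFiniteLimits _ _

local instance (M : X.Modules) : PreservesFiniteLimits (Φ f M) := preservesFiniteLimits_Φ f M

local instance additive_Φ (M : X.Modules) : (Φ f M).Additive :=
  Functor.additive_of_preserves_binary_products _

local instance : (Scheme.Modules.pushforward f).Additive :=
  have : PreservesLimitsOfSize.{0, 0} (Scheme.Modules.pushforward f) :=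
    (Scheme.Modules.pullbackPushforwardAdjunction f).rightAdjoint_preservesLimits
  Functor.additive_of_preserves_binary_products _

variable (G : X.Modules)

/-- Precomposition. -/
noncomputable abbrev pre {A B : X.Modules} (a : A ⟶ B) : (Φ f B).obj G ⟶ (Φ f A).obj G :=
  (Scheme.Modules.pushforward f).map ((ExtSupp.sheafHomMap (O := X.sheaf) a).app G)

theorem pre_comp {A B M : X.Modules} (a : A ⟶ B) (b : B ⟶ M) :
    pre f G b ≫ pre f G a = pre f G (a ≫ b) :=
  ((Scheme.Modules.pushforward f).map_comp _ _).symm.trans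
    (congrArg (Scheme.Modules.pushforward f).map (sheafHomMap_comp_app a b G))

theorem pre_zero (S : ShortComplex X.Modules) : pre f G S.g ≫ pre f G S.f = 0 :=
  ((Scheme.Modules.pushforward f).map_comp _ _).symm.trans
    ((congrArg (Scheme.Modules.pushforward f).map (homMap_comp_zero S G)).trans
      ((Scheme.Modules.pushforward f).map_zero _ _))

theorem pre_exact (S : ShortComplex X.Modules) (hx : S.Exact) (he : Epi S.g) :
    (ShortComplex.mk _ _ (pre_zero f G S)).Exact := by
  have : PreservesLimitsOfSize.{0, 0} (Scheme.Modules.pushforward f) :=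
    (Scheme.Modules.pullbackPushforwardAdjunction f).rightAdjoint_preservesLimits
  have : Mono (homSeq S G).f := mono_homMap S G hx he
  exact (homSeq_exact S G hx he).map_of_mono_of_preservesKernel _ inferInstance inferInstance

theorem mono_pre (S : ShortComplex X.Modules) (hx : S.Exact) (he : Epi S.g) : Mono (pre f G S.g) := by
  have : PreservesLimitsOfSize.{0, 0} (Scheme.Modules.pushforward f) :=
    (Scheme.Modules.pullbackPushforwardAdjunction f).rightAdjoint_preservesLimits
  have : Mono ((ExtSupp.sheafHomMap (O := X.sheaf) S.g).app G) := mono_homMap S G hx he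
  exact (Scheme.Modules.pushforward f).map_mono _

/-- An acyclic resolution of `F` for `R f_* Hom(-, G)`. -/
structure Res (F : X.Modules) where
  L : ℕ → X.Modules
  d : ∀ j, L (j + 1) ⟶ L j
  π : L 0 ⟶ F
  epi : Epi π
  zero₀ : d 0 ≫ π = 0
  exact₀ : (ShortComplex.mk (d 0) π zero₀).Exact
  zero : ∀ j, d (j + 1) ≫ d j = 0
  exact : ∀ j, (ShortComplex.mk (d (j + 1)) (d j) (zero j)).Exact
  acyclic : ∀ j p : ℕ, IsZero (((Φ f (L j)).rightDerived (p + 1)).obj G)

variable {f G}
variable {F : X.Modules} (R : Res f G F)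

/-- The short complex of the resolution in degree `k + 1`. -/
noncomputable abbrev Res.sc (k : ℕ) : ShortComplex Y.Modules :=
  ShortComplex.mk (pre f G (R.d k)) (pre f G (R.d (k + 1)))
    (pre_zero f G (ShortComplex.mk (R.d (k + 1)) (R.d k) (R.zero k)))

/-- The kernel of the augmentation. -/
noncomputable abbrev Res.syz : ShortComplex X.Modules :=
  ShortComplex.mk (kernel.ι R.π) R.π (kernel.condition _)

theorem Res.syz_shortExact : R.syz.ShortExact :=
  have := R.epi
  ShortComplex.ShortExact.mk' (ShortComplex.exact_of_f_is_kernel _ (kernelIsKernel _)) inferInstance inferInstance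

/-- The resolution of the kernel of the augmentation. -/
noncomputable def Res.shift : Res f G (kernel R.π) where
  L j := R.L (j + 1)
  d j := R.d (j + 1)
  π := kernel.lift R.π (R.d 0) R.zero₀
  epi := R.exact₀.epi_kernelLift
  zero₀ := by rw [← cancel_mono (kernel.ι R.π), Category.assoc, kernel.lift_ι, R.zero, zero_comp]
  exact₀ := by
    let φ : ShortComplex.mk (R.d 1) (kernel.lift R.π (R.d 0) R.zero₀)
        (by rw [← cancel_mono (kernel.ι R.π), Category.assoc, kernel.lift_ι, R.zero, zero_comp]) ⟶
        ShortComplex.mk (R.d 1) (R.d 0) (R.zero 0) :=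
      ShortComplex.homMk (𝟙 _) (𝟙 _) (kernel.ι R.π) (by simp) (by simp)
    have : Epi φ.τ₁ := inferInstanceAs (Epi (𝟙 _))
    have : IsIso φ.τ₂ := inferInstanceAs (IsIso (𝟙 _))
    have : Mono φ.τ₃ := inferInstanceAs (Mono (kernel.ι R.π))
    exact (ShortComplex.exact_iff_of_epi_of_isIso_of_mono φ).2 (R.exact 0)
  zero j := R.zero (j + 1)
  exact j := R.exact (j + 1)
  acyclic j p := R.acyclic (j + 1) p

theorem Res.seq_zero :
    Functor.whiskerRight (ExtSupp.sheafHomMap (O := X.sheaf) R.syz.g) (Scheme.Modules.pushforward f) ≫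
      Functor.whiskerRight (ExtSupp.sheafHomMap (O := X.sheaf) R.syz.f) (Scheme.Modules.pushforward f) = 0 := by
  ext N : 2
  exact pre_zero f N R.syz

theorem Res.seq_shortExact (I : ModSite.Mod X.sheaf) (hI : Injective I) :
    (seqAt _ _ R.seq_zero I).ShortExact :=
  push_homSeq_shortExact R.syz R.syz_shortExact I f hI

/-- Degree zero. -/
theorem Res.nonempty_kernel_iso :
    Nonempty (kernel (pre f G (R.d 0)) ≅ ((Φ f F).rightDerived 0).obj G) := by
  have := mono_pre f G (ShortComplex.mk (R.d 0) R.π R.zero₀) R.exact₀ R.epi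
  exact ⟨(IsLimit.conePointUniqueUpToIso (pre_exact f G (ShortComplex.mk (R.d 0) R.π R.zero₀) R.exact₀ R.epi).fIsKernel
      (kernelIsKernel (pre f G (R.d 0)))).symm ≪≫ asIso ((Φ f F).toRightDerivedZero.app G)⟩

/-- Degree one. -/
theorem Res.nonempty_homology_one_iso :
    Nonempty ((R.sc 0).homology ≅ ((Φ f F).rightDerived 1).obj G) := by
  let ι := Functor.whiskerRight (ExtSupp.sheafHomMap (O := X.sheaf) R.syz.g) (Scheme.Modules.pushforward f)
  let π := Functor.whiskerRight (ExtSupp.sheafHomMap (O := X.sheaf) R.syz.f) (Scheme.Modules.pushforward f)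
  let c : (Φ f (kernel R.π)).obj G ⟶ ((Φ f F).rightDerived 1).obj G :=
    (δ₀ ι π R.seq_zero R.seq_shortExact).app G
  have hc0 : pre f G (kernel.ι R.π) ≫ c = 0 :=
    (NatTrans.comp_app π (δ₀ ι π R.seq_zero R.seq_shortExact) G).symm.trans
      (congrArg (fun t => NatTrans.app t G) (π_comp_δ₀ ι π R.seq_zero R.seq_shortExact))
  have hcx : (ShortComplex.mk (pre f G (kernel.ι R.π)) c hc0).Exact :=
    exact_δ₀ ι π R.seq_zero R.seq_shortExact G
  have hce : Epi c := by
    have := epi_δ_app ι π R.seq_zero R.seq_shortExact G 0 (R.acyclic 0 0)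
    change Epi ((Φ f (kernel R.π)).toRightDerivedZero.app G ≫ (δ ι π R.seq_zero R.seq_shortExact 0).app G)
    infer_instance
  have hm := mono_pre f G (ShortComplex.mk (R.shift.d 0) R.shift.π R.shift.zero₀) R.shift.exact₀ R.shift.epi
  let hi := (pre_exact f G (ShortComplex.mk (R.shift.d 0) R.shift.π R.shift.zero₀) R.shift.exact₀
    R.shift.epi).fIsKernel
  have hfac : pre f G (kernel.ι R.π) ≫ pre f G R.shift.π = pre f G (R.d 0) := by
    rw [pre_comp]
    exact congrArg (fun t => pre f G t) (kernel.lift_ι R.π (R.d 0) R.zero₀)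
  exact nonempty_homology_iso_of_exact (R.sc 0) (pre f G R.shift.π)
    (pre_zero f G (ShortComplex.mk (R.shift.d 0) R.shift.π R.shift.zero₀)) hi (pre f G (kernel.ι R.π)) hfac c hc0 hcx

/-- All positive degrees. -/
theorem Res.nonempty_homology_succ_iso : ∀ (k : ℕ) {F : X.Modules} (R : Res f G F),
    Nonempty ((R.sc k).homology ≅ ((Φ f F).rightDerived (k + 1)).obj G)
  | 0, _, R => R.nonempty_homology_one_iso
  | k + 1, F, R => by
    obtain ⟨e⟩ := Res.nonempty_homology_succ_iso k R.shift
    have := isIso_δ_app _ _ R.seq_zero R.seq_shortExact G (k + 1) (R.acyclic 0 k) (R.acyclic 0 (k + 1))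
    exact ⟨e ≪≫ @asIso _ _ _ _ ((δ _ _ R.seq_zero R.seq_shortExact (k + 1)).app G) this⟩

end GrothLib.HomSES20
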