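import Groth.Agent.Lib.HomSES20.Resolution

/-! # Complexes computing relative Ext -/

set_option autoImplicit false
set_option maxHeartbeats 400000
set_option linter.style.haveILetI false
set_option backward.isDefEq.respectTransparency false

universe u

open CategoryTheory CategoryTheory.Limits AlgebraicGeometry

namespace GrothLib.HomSES20

variable {X Y : Scheme.{u}} (f : X ⟶ Y) [HasInjectiveResolutions (ModSite.Mod X.sheaf)]

local instance (M : X.Modules) : ModSite.HasSheafHom (O := X.sheaf) M :=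
  GrothLib.SheafCoh.hasSheafHom X.sheaf M

local instance (M : X.Modules) : (Φ f M).Additive :=
  have := preservesFiniteLimits_Φ f M
  Functor.additive_of_preserves_binary_products _

theorem nonempty_homology_iso (F G : X.Modules)
    (L : ChainComplex X.Modules ℕ) (π : L.X 0 ⟶ F) [Epi π] (hπ : L.d 1 0 ≫ π = 0)
    (hex0 : (ShortComplex.mk (L.d 1 0) π hπ).Exact) (hex : ∀ j : ℕ, L.ExactAt (j + 1))
    (hL : ∀ j p : ℕ, IsZero (((Φ f (L.X j)).rightDerived (p + 1)).obj G))
    (C : CochainComplex Y.Modules ℕ) (e : ∀ j : ℕ, C.X j ≅ (Φ f (L.X j)).obj G)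
    (hC : ∀ j : ℕ, C.d j (j + 1) ≫ (e (j + 1)).hom = (e j).hom ≫ pre f G (L.d (j + 1) j)) (i : ℕ) :
    Nonempty (C.homology i ≅ ((Φ f F).rightDerived i).obj G) := by
  let R : Res f G F :=
    { L := L.X
      d := fun j => L.d (j + 1) j
      π := π
      epi := inferInstance
      zero₀ := hπ
      exact₀ := hex0
      zero := fun j => L.d_comp_d _ _ _
      exact := fun j => (L.exactAt_iff' (j + 2) (j + 1) j (by simp) (by simp)).1 (hex j)
      acyclic := hL }
  match i with
  | 0 =>
    obtain ⟨a⟩ := R.nonempty_kernel_iso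
    exact ⟨(CochainComplex.isoHomologyπ₀ C).symm ≪≫
      (C.cyclesIsKernel 0 1 (by simp)).conePointUniqueUpToIso (kernelIsKernel _) ≪≫
      kernel.mapIso _ _ (e 0) (e 1) (hC 0) ≪≫ a⟩
  | k + 1 =>
    obtain ⟨a⟩ := Res.nonempty_homology_succ_iso k R
    exact ⟨C.homologyIsoSc' k (k + 1) (k + 2) (by simp) (by simp) ≪≫
      ShortComplex.homologyMapIso (ShortComplex.isoMk (e k) (e (k + 1)) (e (k + 2))
        (hC k).symm (hC (k + 1)).symm) ≪≫ a⟩

end GrothLib.HomSES20
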